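import Groth.Agent.W4c5stacksedinertia.K944.Basic
import Mathlib.LinearAlgebra.Eigenspace.Basic
import Mathlib.LinearAlgebra.Eigenspace.Minpoly
import Mathlib.Data.Nat.Choose.Sum
import Mathlib.Data.ZMod.Basic
import Mathlib.RingTheory.Polynomial.Pochhammer
import Mathlib.RingTheory.Polynomial.Basic

set_option autoImplicit false

universe u v

namespace K944.Inertia

open W4c5stacksedinertia

/-! ### filtrations -/

theorem mem_Kle_iff (n : ℕ) (v : K) : v ∈ Kle n ↔ ∀ i ∈ v.support, i.card ≤ n := Iff.rfl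

theorem Kle_eq_span (n : ℕ) : Kle n = Submodule.span ℚ ((fun i : Idx => cl i.rep) '' {i : Idx | i.card ≤ n}) := by
  rw [Kle, Finsupp.supported_eq_span_single]
  congr 1
  exact Set.image_congr fun i _ => (cl_rep i).symm

theorem Kge_eq_span (n : ℕ) : Kge n = Submodule.span ℚ ((fun i : Idx => cl i.rep) '' {i : Idx | n ≤ i.centerCard}) := by
  rw [Kge, Finsupp.supported_eq_span_single]
  congr 1
  exact Set.image_congr fun i _ => (cl_rep i).symm

theorem cl_mem_Kle {G : Type u} [Group G] [Finite G] {n : ℕ} (h : Nat.card G ≤ n) : cl G ∈ Kle n := by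
  rw [Kle, cl]
  exact Finsupp.single_mem_supported ℚ _ (by simpa [card_of] using h)

theorem cl_mem_Kge {G : Type u} [Group G] [Finite G] {n : ℕ} (h : n ≤ Nat.card (Subgroup.center G)) :
    cl G ∈ Kge n := by
  rw [Kge, cl]
  exact Finsupp.single_mem_supported ℚ _ (by simpa [centerCard_of] using h)

theorem Kge_anti {m n : ℕ} (h : m ≤ n) : Kge n ≤ Kge m :=
  Finsupp.supported_mono fun _ hi => le_trans h hi

theorem Kle_mono {m n : ℕ} (h : m ≤ n) : Kle m ≤ Kle n :=
  Finsupp.supported_mono fun _ hi => le_trans hi h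

theorem exists_mem_Kle (v : K) : ∃ n, v ∈ Kle n := by
  refine ⟨v.support.sup Idx.card, fun i hi => Finset.le_sup (f := Idx.card) hi⟩

theorem Kge_one : Kge 1 = ⊤ := by
  rw [eq_top_iff]
  intro v _
  rw [Kge, Finsupp.mem_supported]
  exact fun i _ => Nat.card_pos

theorem Kge_inf_Kle {n : ℕ} {v : K} (h1 : v ∈ Kle n) (h2 : v ∈ Kge (n + 1)) : v = 0 := by
  rw [← Finsupp.support_eq_empty, Finset.eq_empty_iff_forall_notMem]
  intro i hi
  have a : i.card ≤ n := h1 hi
  have b : n + 1 ≤ i.centerCard := h2 hi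
  have c : i.centerCard ≤ i.card := Nat.card_le_card_of_injective _ Subtype.val_injective
  omega

theorem inertia_Kle {n : ℕ} {v : K} (hv : v ∈ Kle n) : inertia v ∈ Kle n := by
  have : Kle n ≤ (Kle n).comap inertia := by
    conv_lhs => rw [Kle_eq_span]
    rw [Submodule.span_le]
    rintro _ ⟨i, hi, rfl⟩
    have hi : Nat.card i.rep ≤ n := hi
    change inertia (cl i.rep) ∈ Kle n
    rw [inertiaR_cl]
    refine Submodule.smul_mem _ _ ?_
    have hf := finite_commTuple i.rep 1
    let _ := Fintype.ofFinite (CommTuple i.rep 1)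
    rw [S, finsum_eq_sum_of_fintype]
    refine Submodule.sum_mem _ fun s _ => Submodule.smul_mem _ _ (cl_mem_Kle ?_)
    exact le_trans (Nat.card_le_card_of_injective _ Subtype.val_injective) hi
  exact this hv

theorem center_le_centralizer {G : Type u} [Group G] (s : Set G) : Subgroup.center G ≤ Subgroup.centralizer s :=
  Subgroup.center_le_centralizer s

theorem inertia_cl_sub (G : Type u) [Group G] [Finite G] :
    inertia (cl G) - (Nat.card (Subgroup.center G) : ℚ) • cl G ∈ Kge (Nat.card (Subgroup.center G) + 1) := by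
  classical
  let _ := Fintype.ofFinite G
  have h0 : (Nat.card G : ℚ) ≠ 0 := by exact_mod_cast Nat.card_pos.ne'
  -- as a sum over elements
  have h1 : S 1 G = ∑ g : G, FC G {g} := by
    unfold S
    let e : CommTuple G 1 ≃ G :=
    { toFun := fun t => t.1 0
      invFun := fun g => ⟨fun _ => g, Function.injective_of_subsingleton _, fun _ _ => Commute.refl _⟩
      left_inv := fun t => Subtype.ext (funext fun i => by rw [Subsingleton.elim i 0])
      right_inv := fun g => rfl }
    rw [← finsum_eq_sum_of_fintype]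
    refine finsum_eq_of_bijective e e.bijective fun t => ?_
    have h : Set.range t.1 = {e t} := by
      ext x
      simp only [Set.mem_range, Set.mem_singleton_iff]
      constructor
      · rintro ⟨i, rfl⟩; rw [Subsingleton.elim i 0]; rfl
      · rintro rfl; exact ⟨0, rfl⟩
    exact F_congr (MulEquiv.subgroupCongr (congrArg Subgroup.centralizer h))
  rw [inertiaR_cl, h1]
  rw [← Finset.sum_filter_add_sum_filter_not Finset.univ (fun g : G => g ∈ Subgroup.center G)]
  have h2 : ∑ g ∈ Finset.univ.filter (fun g : G => g ∈ Subgroup.center G), FC G {g} =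
      (Nat.card (Subgroup.center G) : ℚ) • (Nat.card G : ℚ) • cl G := by
    have h3 : ∀ g ∈ Finset.univ.filter (fun g : G => g ∈ Subgroup.center G), FC G {g} = F G := by
      intro g hg
      rw [Finset.mem_filter] at hg
      have h4 : Subgroup.centralizer {g} = ⊤ := by
        rw [Subgroup.centralizer_eq_top_iff_subset, Set.singleton_subset_iff]
        exact hg.2
      exact F_congr ((MulEquiv.subgroupCongr h4).trans Subgroup.topEquiv)
    rw [Finset.sum_congr rfl h3, Finset.sum_const, ← Nat.cast_smul_eq_nsmul ℚ, F]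
    congr 2
    rw [Nat.card_eq_fintype_card, Fintype.card_subtype]
  rw [h2, smul_add, smul_smul, smul_smul, mul_right_comm,
    inv_mul_cancel₀ h0, one_mul, add_sub_cancel_left]
  refine Submodule.smul_mem _ _ (Submodule.sum_mem _ fun g hg => Submodule.smul_mem _ _ (cl_mem_Kge ?_))
  rw [Finset.mem_filter] at hg
  -- the centre of the centralizer
  have hgc : g ∈ Subgroup.centralizer {g} := by
    rw [Subgroup.mem_centralizer_iff]; rintro _ rfl; rfl
  let φ : Option (Subgroup.center G) → Subgroup.center (Subgroup.centralizer {g}) := fun o =>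
    match o with
    | none => ⟨⟨g, hgc⟩, by
        rw [Subgroup.mem_center_iff]
        intro x
        exact Subtype.ext (Subgroup.mem_centralizer_iff.mp x.2 g rfl).symm⟩
    | some z => ⟨⟨z.1, Subgroup.center_le_centralizer _ z.2⟩, by
        rw [Subgroup.mem_center_iff]
        intro x
        exact Subtype.ext (Subgroup.mem_center_iff.mp z.2 x.1)⟩
  have hφ : Function.Injective φ := by
    intro a b hab
    have h5 : ((φ a).1.1 : G) = (φ b).1.1 := by rw [hab]
    match a, b with
    | none, none => rfl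
    | none, some z => exact absurd (by rw [show g = z.1 from h5]; exact z.2) hg.2
    | some z, none => exact absurd (by rw [show g = z.1 from h5.symm]; exact z.2) hg.2
    | some z, some w => exact congrArg some (Subtype.ext h5)
  have h6 := Nat.card_le_card_of_injective φ hφ
  rwa [Finite.card_option] at h6

theorem inertia_sub_smul_mem_Kge {k : ℕ} {v : K} (hv : v ∈ Kge k) :
    inertia v - (k : ℚ) • v ∈ Kge (k + 1) := by
  have : Kge k ≤ (Kge (k + 1)).comap (inertia - (k : ℚ) • LinearMap.id) := by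
    conv_lhs => rw [Kge_eq_span]
    rw [Submodule.span_le]
    rintro _ ⟨i, hi, rfl⟩
    have hi : k ≤ Nat.card (Subgroup.center i.rep) := hi
    change inertia (cl i.rep) - (k : ℚ) • cl i.rep ∈ Kge (k + 1)
    have h := inertia_cl_sub i.rep
    rcases hi.eq_or_lt with h1 | h1
    · rw [← h1] at h; exact h
    · have h2 := Submodule.add_mem _ (Kge_anti (by omega : k + 1 ≤ _) h)
        (Submodule.smul_mem _ ((Nat.card (Subgroup.center i.rep) : ℚ) - k) (cl_mem_Kge (G := i.rep) (n := k + 1) h1))
      rw [sub_smul] at h2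
      convert h2 using 1
      abel
  exact this hv

theorem inertia_Kge {k : ℕ} {v : K} (hv : v ∈ Kge k) : inertia v ∈ Kge k := by
  have h := Submodule.add_mem _ (Kge_anti (Nat.le_succ k) (inertia_sub_smul_mem_Kge hv)) (Submodule.smul_mem _ (k : ℚ) hv)
  rwa [sub_add_cancel] at h

theorem inertiaR_sub_smul_mem_Kge (r k : ℕ) (v : K) (hv : v ∈ Kge k) :
    inertiaR r v - ((Nat.descFactorial k r : ℕ) : ℚ) • v ∈ Kge (k + 1) := by
  induction r with
  | zero => simp [inertiaR_zero]
  | succ r ih =>
    rw [inertiaR_succ]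
    have h1 : inertia (inertiaR r v - ((Nat.descFactorial k r : ℕ) : ℚ) • v) -
        (r : ℚ) • (inertiaR r v - ((Nat.descFactorial k r : ℕ) : ℚ) • v) ∈ Kge (k + 1) :=
      Submodule.sub_mem _ (inertia_Kge ih) (Submodule.smul_mem _ _ ih)
    have h2 : ((Nat.descFactorial k r : ℕ) : ℚ) • (inertia v - (k : ℚ) • v) ∈ Kge (k + 1) :=
      Submodule.smul_mem _ _ (inertia_sub_smul_mem_Kge hv)
    have h3 := Submodule.add_mem _ h1 h2
    have h4 : ((Nat.descFactorial k (r + 1) : ℕ) : ℚ) = ((k : ℚ) - r) * (Nat.descFactorial k r : ℕ) := by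
      rw [Nat.descFactorial_succ, Nat.cast_mul]
      rcases le_or_gt r k with h | h
      · rw [Nat.cast_sub h]
      · rw [Nat.descFactorial_of_lt h]; simp
    rw [h4]
    convert h3 using 1
    rw [map_sub, map_smul]
    module

/-! ### eigenspaces -/

open Polynomial in
/-- products of distinct linear factors -/
theorem ker_aeval_prod (s : Finset ℕ) :
    LinearMap.ker (aeval inertia (∏ k ∈ s, (X - C (k : ℚ)))) = ⨆ k ∈ s, Module.End.eigenspace inertia (k : ℚ) := by
  classical
  induction s using Finset.induction_on with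
  | empty =>
    simp only [Finset.prod_empty, map_one, Finset.notMem_empty, not_false_eq_true, iSup_neg, iSup_bot]
    exact LinearMap.ker_id
  | insert a s ha ih =>
    rw [Finset.prod_insert ha, ← Polynomial.sup_ker_aeval_eq_ker_aeval_mul_of_coprime, ih, Finset.iSup_insert]
    · congr 1
      rw [map_sub, aeval_X, aeval_C, Module.End.eigenspace_def]
      rfl
    · refine IsCoprime.prod_right fun k hk => ?_
      refine Polynomial.isCoprime_X_sub_C_of_isUnit_sub ?_
      rw [isUnit_iff_ne_zero, sub_ne_zero]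
      intro h
      exact ha (by rwa [show a = k by exact_mod_cast h])

open Polynomial in
theorem aeval_prod_mem {n : ℕ} {v : K} (hv : v ∈ Kle n) (m : ℕ) :
    aeval inertia (∏ k ∈ Finset.range m, (X - C ((k + 1 : ℕ) : ℚ))) v ∈ Kle n ⊓ Kge (m + 1) := by
  induction m with
  | zero =>
    simp only [Finset.range_zero, Finset.prod_empty, map_one]
    exact ⟨hv, by rw [Kge_one]; trivial⟩
  | succ m ih =>
    rw [Finset.prod_range_succ, mul_comm, map_mul, map_sub, aeval_X, aeval_C]
    set w := aeval inertia (∏ k ∈ Finset.range m, (X - C ((k + 1 : ℕ) : ℚ))) v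
    change inertia w - (algebraMap ℚ (Module.End ℚ K) ((m + 1 : ℕ) : ℚ)) w ∈ _
    rw [Module.algebraMap_end_apply]
    exact ⟨Submodule.sub_mem _ (inertia_Kle ih.1) (Submodule.smul_mem _ _ ih.1), inertia_sub_smul_mem_Kge ih.2⟩

open Polynomial in
theorem aeval_prod_eq_zero {n : ℕ} {v : K} (hv : v ∈ Kle n) :
    aeval inertia (∏ k ∈ Finset.range n, (X - C ((k + 1 : ℕ) : ℚ))) v = 0 := by
  have := aeval_prod_mem hv n
  exact Kge_inf_Kle this.1 this.2

open Polynomial in
theorem inertiaR_eq_aeval (r : ℕ) :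
    inertiaR r = aeval inertia (∏ k ∈ Finset.range r, (X - C (k : ℚ))) := by
  induction r with
  | zero =>
    simp only [Finset.range_zero, Finset.prod_empty, map_one]
    exact LinearMap.ext inertiaR_zero
  | succ r ih =>
    rw [Finset.prod_range_succ, mul_comm, map_mul, ← ih, map_sub, aeval_X, aeval_C]
    refine LinearMap.ext fun v => ?_
    rw [inertiaR_succ]
    change _ = inertia (inertiaR r v) - (algebraMap ℚ (Module.End ℚ K) (r : ℚ)) (inertiaR r v)
    rw [Module.algebraMap_end_apply]

theorem iSup_eigenspace_eq_top : (⨆ n : ℕ, Module.End.eigenspace inertia (n : ℚ)) = ⊤ := by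
  rw [eq_top_iff]
  intro v _
  obtain ⟨n, hn⟩ := exists_mem_Kle v
  have h := aeval_prod_eq_zero hn
  have h1 : (∏ k ∈ Finset.range n, (Polynomial.X - Polynomial.C ((k + 1 : ℕ) : ℚ))) =
      ∏ k ∈ (Finset.range n).image Nat.succ, (Polynomial.X - Polynomial.C ((k : ℕ) : ℚ)) := by
    rw [Finset.prod_image (fun a _ b _ h => Nat.succ_injective h)]
  rw [h1, ← LinearMap.mem_ker, ker_aeval_prod] at h
  exact (iSup₂_le fun k _ => le_iSup (fun n : ℕ => Module.End.eigenspace inertia (n : ℚ)) k) h

theorem inertiaR_of_mem_eigenspace {k : ℕ} {v : K} (hv : v ∈ Module.End.eigenspace inertia (k : ℚ)) (r : ℕ) :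
    inertiaR r v = ((Nat.descFactorial k r : ℕ) : ℚ) • v := by
  rw [Module.End.mem_eigenspace_iff] at hv
  induction r with
  | zero => simp [inertiaR_zero]
  | succ r ih =>
    have h4 : ((Nat.descFactorial k (r + 1) : ℕ) : ℚ) = ((k : ℚ) - r) * (Nat.descFactorial k r : ℕ) := by
      rw [Nat.descFactorial_succ, Nat.cast_mul]
      rcases le_or_gt r k with h | h
      · rw [Nat.cast_sub h]
      · rw [Nat.descFactorial_of_lt h]; simp
    rw [inertiaR_succ, ih, map_smul, hv, h4]
    module

theorem hasEigenvalue_iff (μ : ℚ) :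
    Module.End.HasEigenvalue inertia μ ↔ ∃ n : ℕ, 0 < n ∧ μ = (n : ℚ) := by
  constructor
  · intro h
    obtain ⟨v, hv⟩ := h.exists_hasEigenvector
    obtain ⟨n, hn⟩ := exists_mem_Kle v
    have h1 := aeval_prod_eq_zero hn
    rw [Module.End.aeval_apply_of_hasEigenvector hv, smul_eq_zero] at h1
    have h2 := h1.resolve_right hv.2
    rw [Polynomial.eval_prod, Finset.prod_eq_zero_iff] at h2
    obtain ⟨k, _, hk⟩ := h2
    refine ⟨k + 1, Nat.succ_pos k, ?_⟩
    rw [Polynomial.eval_sub, Polynomial.eval_X, Polynomial.eval_C, sub_eq_zero] at hk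
    exact hk
  · rintro ⟨n, hn, rfl⟩
    have : NeZero n := ⟨hn.ne'⟩
    have hG : Nat.card (Multiplicative (ZMod n)) = n := by
      rw [Nat.card_congr Multiplicative.toAdd, Nat.card_zmod]
    have : Finite (Multiplicative (ZMod n)) := Nat.finite_of_card_ne_zero (by rw [hG]; exact hn.ne')
    refine Module.End.hasEigenvalue_of_hasEigenvector (x := cl (Multiplicative (ZMod n))) ⟨?_, ?_⟩
    · rw [Module.End.mem_eigenspace_iff]
      have h1 := inertia_cl_sub (Multiplicative (ZMod n))
      have h2 : Nat.card (Subgroup.center (Multiplicative (ZMod n))) = n := by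
        rw [CommGroup.center_eq_top, Nat.card_congr Subgroup.topEquiv.toEquiv, hG]
      rw [h2] at h1
      have h3 : cl (Multiplicative (ZMod n)) ∈ Kle n := cl_mem_Kle hG.le
      have h4 : inertia (cl (Multiplicative (ZMod n))) - (n : ℚ) • cl (Multiplicative (ZMod n)) ∈ Kle n :=
        Submodule.sub_mem _ (inertia_Kle h3) (Submodule.smul_mem _ _ h3)
      exact sub_eq_zero.mp (Kge_inf_Kle h4 h1)
    · rw [cl, Ne, Finsupp.single_eq_zero]
      exact one_ne_zero

theorem ker_inertiaR (r : ℕ) :
    LinearMap.ker (inertiaR r) = ⨆ k ∈ Finset.range r, Module.End.eigenspace inertia (k : ℚ) := by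
  rw [inertiaR_eq_aeval, ker_aeval_prod]

/-! ### the eigenprojections -/

theorem coeff_identity (m k : ℕ) :
    ∑ r ∈ Finset.range (m + 1), ((-1 : ℚ) ^ (r + k) / (Nat.factorial r : ℚ) * (Nat.choose r k : ℚ)) *
      (Nat.descFactorial m r : ℕ) = if k = m then 1 else 0 := by
  have h1 : ∀ r, ((-1 : ℚ) ^ (r + k) / (Nat.factorial r : ℚ) * (Nat.choose r k : ℚ)) * (Nat.descFactorial m r : ℕ) =
      (-1 : ℚ) ^ (r + k) * ((Nat.choose m r : ℕ) * (Nat.choose r k : ℕ) : ℕ) := by
    intro r
    have h2 : (Nat.factorial r : ℚ) ≠ 0 := by exact_mod_cast Nat.factorial_ne_zero r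
    rw [Nat.descFactorial_eq_factorial_mul_choose]
    push_cast
    field_simp
  rw [Finset.sum_congr rfl fun r _ => h1 r]
  rcases lt_or_ge m k with hk | hk
  · rw [if_neg hk.ne']
    refine Finset.sum_eq_zero fun r hr => ?_
    rw [Nat.choose_eq_zero_of_lt (n := r) (k := k) (by have := Finset.mem_range.mp hr; omega)]
    simp
  · obtain ⟨d, rfl⟩ := Nat.exists_eq_add_of_le hk
    have h3 : ∑ r ∈ Finset.range (k + d + 1), (-1 : ℚ) ^ (r + k) * ((Nat.choose (k + d) r : ℕ) * (Nat.choose r k : ℕ) : ℕ) =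
        ∑ i ∈ Finset.range (d + 1), (-1 : ℚ) ^ i * ((Nat.choose (k + d) k : ℕ) * (Nat.choose d i : ℕ) : ℕ) := by
      rw [add_assoc, Finset.sum_range_add]
      rw [Finset.sum_eq_zero, zero_add]
      · refine Finset.sum_congr rfl fun i _ => ?_
        have h5 : (Nat.choose (k + d) (k + i)) * (Nat.choose (k + i) k) = (Nat.choose (k + d) k) * (Nat.choose d i) := by
          rw [Nat.choose_mul (Nat.le_add_right k i), Nat.add_sub_cancel_left, Nat.add_sub_cancel_left]
        rw [h5, show k + i + k = i + 2 * k by ring, pow_add, pow_mul]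
        simp
      · intro r hr
        rw [Nat.choose_eq_zero_of_lt (n := r) (k := k) (Finset.mem_range.mp hr)]
        simp
    rw [h3]
    have h6 : ∑ i ∈ Finset.range (d + 1), (-1 : ℚ) ^ i * ((Nat.choose (k + d) k : ℕ) * (Nat.choose d i : ℕ) : ℕ) =
        (Nat.choose (k + d) k : ℚ) * ((∑ i ∈ Finset.range (d + 1), (-1) ^ i * (Nat.choose d i : ℤ) : ℤ) : ℚ) := by
      rw [Int.cast_sum, Finset.mul_sum]
      refine Finset.sum_congr rfl fun i _ => ?_
      push_cast
      ring
    rw [h6, Int.alternating_sum_range_choose]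
    rcases Nat.eq_zero_or_pos d with rfl | hd
    · simp
    · rw [if_neg hd.ne', if_neg (by omega)]; simp

/-- The value of the `k`-th projection on an eigenvector. -/
theorem proj_of_mem {m : ℕ} {v : K} (hv : v ∈ Module.End.eigenspace inertia (m : ℚ)) (k : ℕ) :
    (Function.support fun r : ℕ => (((-1 : ℚ) ^ (r + k)) / (Nat.factorial r : ℚ) * (Nat.choose r k : ℚ)) •
        inertiaR r v) ⊆ Finset.range (m + 1) ∧
    (∑ᶠ r : ℕ, (((-1 : ℚ) ^ (r + k)) / (Nat.factorial r : ℚ) * (Nat.choose r k : ℚ)) •
        inertiaR r v) = if k = m then v else 0 := by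
  have h1 : (Function.support fun r : ℕ => (((-1 : ℚ) ^ (r + k)) / (Nat.factorial r : ℚ) * (Nat.choose r k : ℚ)) •
        inertiaR r v) ⊆ Finset.range (m + 1) := by
    intro r hr
    by_contra hc
    apply hr
    have : m < r := by simpa using hc
    change _ • inertiaR r v = 0
    rw [inertiaR_of_mem_eigenspace hv, Nat.descFactorial_of_lt this, Nat.cast_zero, zero_smul, smul_zero]
  refine ⟨h1, ?_⟩
  rw [finsum_eq_sum_of_support_subset _ h1]
  have h2 : ∀ r ∈ Finset.range (m + 1), (((-1 : ℚ) ^ (r + k)) / (Nat.factorial r : ℚ) * (Nat.choose r k : ℚ)) •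
        inertiaR r v = (((-1 : ℚ) ^ (r + k) / (Nat.factorial r : ℚ) * (Nat.choose r k : ℚ)) *
      (Nat.descFactorial m r : ℕ)) • v := by
    intro r _
    rw [inertiaR_of_mem_eigenspace hv, smul_smul]
  rw [Finset.sum_congr rfl h2, ← Finset.sum_smul, coeff_identity]
  split_ifs
  · rw [one_smul]
  · rw [zero_smul]

/-- The `k`-th projection. -/
noncomputable def P (k : ℕ) (v : K) : K :=
  ∑ᶠ r : ℕ, (((-1 : ℚ) ^ (r + k)) / (Nat.factorial r : ℚ) * (Nat.choose r k : ℚ)) • inertiaR r v

theorem projections (v : K) : (∃ n : ℕ, ∀ r, n ≤ r → inertiaR r v = 0) ∧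
    (∀ k : ℕ, P k v ∈ Module.End.eigenspace inertia (k : ℚ)) ∧ (Function.support fun k => P k v).Finite ∧
    ∑ᶠ k, P k v = v := by
  have hv : v ∈ (⨆ n : ℕ, Module.End.eigenspace inertia (n : ℚ)) := by
    rw [iSup_eigenspace_eq_top]; trivial
  refine Submodule.iSup_induction _ (motive := fun v => (∃ n : ℕ, ∀ r, n ≤ r → inertiaR r v = 0) ∧
    (∀ k : ℕ, P k v ∈ Module.End.eigenspace inertia (k : ℚ)) ∧ (Function.support fun k => P k v).Finite ∧
    ∑ᶠ k, P k v = v) hv ?_ ?_ ?_
  · intro m v hv
    have hP : ∀ k, P k v = if k = m then v else 0 := fun k => (proj_of_mem hv k).2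
    refine ⟨⟨m + 1, fun r hr => ?_⟩, fun k => ?_, ?_, ?_⟩
    · rw [inertiaR_of_mem_eigenspace hv, Nat.descFactorial_of_lt (by omega), Nat.cast_zero, zero_smul]
    · rw [hP]
      split_ifs with h
      · rw [h]; exact hv
      · exact Submodule.zero_mem _
    · refine (Set.finite_singleton m).subset fun k hk => ?_
      by_contra hc
      apply hk
      change P k v = 0
      rw [hP, if_neg (by simpa using hc)]
    · simp only [hP]
      rw [finsum_eq_single _ m (fun k hk => if_neg hk), if_pos rfl]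
  · have hP : ∀ k, P k 0 = 0 := by
      intro k; unfold P; simp
    refine ⟨⟨0, fun r _ => map_zero _⟩, fun k => by rw [hP]; exact Submodule.zero_mem _, ?_, ?_⟩
    · simp [hP]
    · simp [hP]
  · rintro x y ⟨⟨n, hn⟩, h1, h2, h3⟩ ⟨⟨n', hn'⟩, h1', h2', h3'⟩
    have hfin : ∀ (k : ℕ) (z : K) (n : ℕ), (∀ r, n ≤ r → inertiaR r z = 0) → (Function.support fun r : ℕ =>
        (((-1 : ℚ) ^ (r + k)) / (Nat.factorial r : ℚ) * (Nat.choose r k : ℚ)) • inertiaR r z).Finite := by
      intro k z n hn
      refine (Finset.finite_toSet (Finset.range n)).subset fun r hr => ?_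
      by_contra hc
      apply hr
      change _ • inertiaR r z = 0
      rw [hn r (by simpa using hc), smul_zero]
    have hP : ∀ k, P k (x + y) = P k x + P k y := by
      intro k
      unfold P
      rw [← finsum_add_distrib (hfin k x n hn) (hfin k y n' hn')]
      refine finsum_congr fun r => ?_
      rw [map_add, smul_add]
    refine ⟨⟨max n n', fun r hr => ?_⟩, fun k => ?_, ?_, ?_⟩
    · rw [map_add, hn r (le_trans (le_max_left _ _) hr), hn' r (le_trans (le_max_right _ _) hr), add_zero]
    · rw [hP]; exact Submodule.add_mem _ (h1 k) (h1' k)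
    · refine (h2.union h2').subset fun k hk => ?_
      by_contra hc
      apply hk
      change P k (x + y) = 0
      rw [Set.mem_union, not_or, Function.mem_support, Function.mem_support, not_not, not_not] at hc
      rw [hP, hc.1, hc.2, add_zero]
    · simp only [hP]
      rw [finsum_add_distrib h2 h2', h3, h3']

end K944.Inertia
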