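import Groth.Prelude.Def_W4c5stacksedinertiaGpd
import Mathlib.GroupTheory.GroupAction.ConjAct
import Mathlib.GroupTheory.GroupAction.Quotient
import Mathlib.GroupTheory.Index
import Mathlib.Data.Fin.Tuple.Basic
import Mathlib.Algebra.BigOperators.Fin

set_option autoImplicit false

universe u v

namespace K944.Inertia

open W4c5stacksedinertia

/-! ### isomorphism invariance -/

theorem of_equiv (G : Type u) [Group G] [Finite G] : Nonempty ((FinGrp.of G).carrier ≃* G) :=
  ⟨{ toEquiv := (Nat.equivFinOfCardPos (α := G) Nat.card_pos.ne').symm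
     map_mul' := fun x y => by
      change (Nat.equivFinOfCardPos (α := G) Nat.card_pos.ne').symm
        ((Nat.equivFinOfCardPos (α := G) Nat.card_pos.ne')
          ((Nat.equivFinOfCardPos (α := G) Nat.card_pos.ne').symm x *
          (Nat.equivFinOfCardPos (α := G) Nat.card_pos.ne').symm y)) = _
      rw [Equiv.symm_apply_apply]
      rfl }⟩

theorem of_congr {G : Type u} {H : Type v} [Group G] [Finite G] [Group H] [Finite H] (e : G ≃* H) :
    Idx.of G = Idx.of H := by
  obtain ⟨a⟩ := of_equiv G
  obtain ⟨b⟩ := of_equiv H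
  exact Quotient.sound (s := FinGrp.setoid) ⟨(a.trans e).trans b.symm⟩

theorem cl_congr {G : Type u} {H : Type v} [Group G] [Finite G] [Group H] [Finite H] (e : G ≃* H) :
    cl G = cl H := by
  unfold cl; rw [of_congr e]

theorem rep_equiv (G : Type u) [Group G] [Finite G] : Nonempty ((Idx.of G).rep ≃* G) := by
  obtain ⟨a⟩ := of_equiv G
  have h : FinGrp.setoid.r (Quotient.out (s := FinGrp.setoid) (Idx.of G)) (FinGrp.of G) :=
    Quotient.exact (s := FinGrp.setoid) (Quotient.out_eq (s := FinGrp.setoid) (Idx.of G))
  obtain ⟨b⟩ := h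
  exact ⟨b.trans a⟩

theorem of_rep (i : Idx) : Idx.of i.rep = i := by
  obtain ⟨a⟩ := of_equiv i.rep
  have h : Idx.of i.rep = Quotient.mk FinGrp.setoid (Quotient.out (s := FinGrp.setoid) i) :=
    Quotient.sound (s := FinGrp.setoid) ⟨a⟩
  rw [h]; exact Quotient.out_eq (s := FinGrp.setoid) i

theorem cl_rep (i : Idx) : cl i.rep = Finsupp.single i 1 := by
  unfold cl; rw [of_rep]

theorem card_of (G : Type u) [Group G] [Finite G] : (Idx.of G).card = Nat.card G := by
  obtain ⟨e⟩ := rep_equiv G
  exact Nat.card_congr e.toEquiv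

theorem centerCard_of (G : Type u) [Group G] [Finite G] :
    (Idx.of G).centerCard = Nat.card (Subgroup.center G) := by
  obtain ⟨e⟩ := rep_equiv G
  exact Nat.card_congr (Subgroup.centerCongr e).toEquiv

/-! ### the averaging formula -/

theorem finite_commTuple (G : Type u) [Group G] [Finite G] (r : ℕ) : Finite (CommTuple G r) :=
  inferInstanceAs (Finite { s : Fin r → G // Function.Injective s ∧ ∀ i j, Commute (s i) (s j) })

/-- The class of `G` weighted by the order. -/
noncomputable def F (G : Type u) [Group G] [Finite G] : K := (Nat.card G : ℚ) • cl G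

theorem F_congr {G : Type u} {H : Type v} [Group G] [Finite G] [Group H] [Finite H] (e : G ≃* H) :
    F G = F H := by
  unfold F; rw [cl_congr e, Nat.card_congr e.toEquiv]

theorem centralizer_conj {G : Type u} [Group G] (g : G) {r : ℕ} (s t : Fin r → G)
    (h : ∀ i, g * s i * g⁻¹ = t i) :
    Subgroup.centralizer (Set.range t) = (Subgroup.centralizer (Set.range s)).map (MulAut.conj g).toMonoidHom := by
  ext x
  simp only [Subgroup.mem_centralizer_iff, Subgroup.mem_map, Set.forall_mem_range,
    MulEquiv.coe_toMonoidHom, MulAut.conj_apply]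
  constructor
  · intro hx
    refine ⟨g⁻¹ * x * g, fun i => ?_, by group⟩
    have := hx i
    rw [← h i] at this
    calc s i * (g⁻¹ * x * g) = g⁻¹ * (g * s i * g⁻¹ * x) * g := by group
      _ = g⁻¹ * (x * (g * s i * g⁻¹)) * g := by rw [this]
      _ = g⁻¹ * x * g * s i := by group
  · rintro ⟨y, hy, rfl⟩ i
    rw [← h i]
    calc g * s i * g⁻¹ * (g * y * g⁻¹) = g * (s i * y) * g⁻¹ := by group
      _ = g * (y * s i) * g⁻¹ := by rw [hy i]
      _ = g * y * g⁻¹ * (g * s i * g⁻¹) := by group

theorem F_centralizer_conj {G : Type u} [Group G] [Finite G] (g : G) {r : ℕ} (s t : Fin r → G)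
    (h : ∀ i, g * s i * g⁻¹ = t i) :
    F (Subgroup.centralizer (Set.range t)) = F (Subgroup.centralizer (Set.range s)) := by
  have e : Subgroup.centralizer (Set.range s) ≃* Subgroup.centralizer (Set.range t) :=
    (Subgroup.equivMapOfInjective _ (MulAut.conj g).toMonoidHom (MulAut.conj g).injective).trans
      (MulEquiv.subgroupCongr (centralizer_conj g s t h).symm)
  exact (F_congr e).symm

theorem card_fiber {G : Type u} [Group G] [Finite G] {r : ℕ} (t : CommTuple G r) :
    Nat.card {s : CommTuple G r // (CommTuple.setoid G r).r t s} *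
      Nat.card (Subgroup.centralizer (Set.range t.1)) = Nat.card G := by
  have h1 : Nat.card {s : CommTuple G r // (CommTuple.setoid G r).r t s} =
      Nat.card (MulAction.orbit (ConjAct G) t.1) := by
    let φ : {s : CommTuple G r // (CommTuple.setoid G r).r t s} → MulAction.orbit (ConjAct G) t.1 :=
      fun s => ⟨s.1.1, by
        obtain ⟨g, hg⟩ := s.2
        exact ⟨ConjAct.toConjAct g, funext fun i => by
          simp only [Pi.smul_apply, ConjAct.smul_def, ConjAct.ofConjAct_toConjAct]
          exact hg i⟩⟩
    refine Nat.card_congr (Equiv.ofBijective φ ⟨?_, ?_⟩)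
    · intro a b hab
      have h := congrArg Subtype.val hab
      exact Subtype.ext (Subtype.ext h)
    · rintro ⟨x, g, hg⟩
      have hx : ∀ i, ConjAct.ofConjAct g * t.1 i * (ConjAct.ofConjAct g)⁻¹ = x i := by
        intro i; rw [← hg]; simp only [Pi.smul_apply, ConjAct.smul_def]
      refine ⟨⟨⟨x, ?_, ?_⟩, ⟨ConjAct.ofConjAct g, hx⟩⟩, rfl⟩
      · intro i j hij
        rw [← hx i, ← hx j] at hij
        exact t.2.1 (by simpa using hij)
      · intro i j
        rw [← hx i, ← hx j]
        exact (t.2.2 i j).map (MulAut.conj (ConjAct.ofConjAct g))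
  have h2 : Nat.card (Subgroup.centralizer (Set.range t.1)) =
      Nat.card (MulAction.stabilizer (ConjAct G) t.1) := by
    refine Nat.card_congr (Equiv.subtypeEquiv ConjAct.toConjAct.toEquiv fun g => ?_)
    rw [Subgroup.mem_centralizer_iff, MulAction.mem_stabilizer_iff]
    constructor
    · intro h
      funext i
      simp only [Pi.smul_apply, ConjAct.smul_def]
      have := h (t.1 i) (Set.mem_range_self i)
      change g * t.1 i * g⁻¹ = t.1 i
      rw [← this]; group
    · rintro h _ ⟨i, rfl⟩
      have h3 := congrFun h i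
      simp only [Pi.smul_apply, ConjAct.smul_def] at h3
      change g * t.1 i * g⁻¹ = t.1 i at h3
      nth_rewrite 1 [← h3]; group
  rw [h1, h2]
  have h3 := Nat.card_congr (MulAction.orbitProdStabilizerEquivGroup (ConjAct G) t.1)
  rw [Nat.card_prod] at h3
  rw [h3]; rfl

theorem card_smul_inertiaROf (r : ℕ) (G : Type u) [Group G] [Finite G] :
    (Nat.card G : ℚ) • inertiaROf r G = ∑ᶠ s : CommTuple G r, F (Subgroup.centralizer (Set.range s.1)) := by
  classical
  have := finite_commTuple G r
  let _ := Fintype.ofFinite (CommTuple G r)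
  have : Finite (CommTuple.Orbit G r) := Quotient.finite _
  let _ := Fintype.ofFinite (CommTuple.Orbit G r)
  rw [inertiaROf, finsum_eq_sum_of_fintype, finsum_eq_sum_of_fintype, Finset.smul_sum]
  let q : CommTuple G r → CommTuple.Orbit G r := fun s => Quotient.mk (CommTuple.setoid G r) s
  rw [← Finset.sum_fiberwise Finset.univ q (fun s : CommTuple G r => F (Subgroup.centralizer (Set.range s.1)))]
  refine Finset.sum_congr rfl fun O _ => ?_
  set t := Quotient.out (s := CommTuple.setoid G r) O with ht
  have h0 : ∀ s : CommTuple G r, q s = O ↔ (CommTuple.setoid G r).r t s := by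
    intro s
    constructor
    · intro hs
      apply Quotient.exact (s := CommTuple.setoid G r)
      rw [ht]
      exact (Quotient.out_eq (s := CommTuple.setoid G r) O).trans hs.symm
    · intro hs
      have : q t = q s := Quotient.sound (s := CommTuple.setoid G r) hs
      rw [← this, ht]
      exact Quotient.out_eq (s := CommTuple.setoid G r) O
  have h1 : ∀ s ∈ Finset.univ.filter (fun s => q s = O),
      F (Subgroup.centralizer (Set.range s.1)) = F (Subgroup.centralizer (Set.range t.1)) := by
    intro s hs
    rw [Finset.mem_filter] at hs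
    obtain ⟨g, hg⟩ := (h0 s).mp hs.2
    exact F_centralizer_conj g _ _ hg
  rw [Finset.sum_congr rfl h1, Finset.sum_const]
  have h3 : (Finset.univ.filter (fun s => q s = O)).card
      = Nat.card {s : CommTuple G r // (CommTuple.setoid G r).r t s} := by
    rw [← Fintype.card_subtype, ← Nat.card_eq_fintype_card]
    exact Nat.card_congr (Equiv.subtypeEquivRight h0)
  rw [h3, F, ← Nat.cast_smul_eq_nsmul ℚ, smul_smul, ← Nat.cast_mul, card_fiber t]

/-! ### the recursion -/

/-- The weighted sum over all commuting tuples. -/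
noncomputable def S (r : ℕ) (G : Type u) [Group G] [Finite G] : K :=
  ∑ᶠ s : CommTuple G r, F (Subgroup.centralizer (Set.range s.1))

theorem inertiaROf_eq (r : ℕ) (G : Type u) [Group G] [Finite G] :
    inertiaROf r G = (Nat.card G : ℚ)⁻¹ • S r G := by
  have h : (Nat.card G : ℚ) ≠ 0 := by exact_mod_cast Nat.card_pos.ne'
  rw [S, ← card_smul_inertiaROf, smul_smul, inv_mul_cancel₀ h, one_smul]

/-- Transport of commuting tuples. -/
def tupleEquiv {G : Type u} {H : Type v} [Group G] [Group H] (e : G ≃* H) (r : ℕ) :
    CommTuple G r ≃ CommTuple H r where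
  toFun s := ⟨fun i => e (s.1 i), e.injective.comp s.2.1, fun i j => (s.2.2 i j).map e⟩
  invFun s := ⟨fun i => e.symm (s.1 i), e.symm.injective.comp s.2.1, fun i j => (s.2.2 i j).map e.symm⟩
  left_inv s := Subtype.ext (funext fun i => e.symm_apply_apply _)
  right_inv s := Subtype.ext (funext fun i => e.apply_symm_apply _)

theorem S_congr {G : Type u} {H : Type v} [Group G] [Finite G] [Group H] [Finite H] (e : G ≃* H) (r : ℕ) :
    S r G = S r H := by
  unfold S
  refine finsum_eq_of_bijective (tupleEquiv e r) (tupleEquiv e r).bijective fun s => ?_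
  have h : (Subgroup.centralizer (Set.range s.1)).map e.toMonoidHom =
      Subgroup.centralizer (Set.range (tupleEquiv e r s).1) := by
    ext x
    simp only [Subgroup.mem_centralizer_iff, Subgroup.mem_map, Set.forall_mem_range]
    constructor
    · rintro ⟨y, hy, rfl⟩ i
      change e (s.1 i) * e y = e y * e (s.1 i)
      rw [← map_mul, hy i, map_mul]
    · intro hx
      refine ⟨e.symm x, fun i => ?_, e.apply_symm_apply x⟩
      apply e.injective
      rw [map_mul, map_mul, e.apply_symm_apply]
      exact hx i
  exact F_congr ((Subgroup.equivMapOfInjective _ e.toMonoidHom e.injective).trans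
      (MulEquiv.subgroupCongr h))

theorem inertiaROf_congr {G : Type u} {H : Type v} [Group G] [Finite G] [Group H] [Finite H] (e : G ≃* H)
    (r : ℕ) : inertiaROf r G = inertiaROf r H := by
  rw [inertiaROf_eq, inertiaROf_eq, S_congr e, Nat.card_congr e.toEquiv]

theorem inertiaR_cl (r : ℕ) (G : Type u) [Group G] [Finite G] :
    inertiaR r (cl G) = (Nat.card G : ℚ)⁻¹ • S r G := by
  obtain ⟨e⟩ := rep_equiv G
  rw [cl, inertiaR, Finsupp.linearCombination_single, one_smul, ← inertiaROf_eq]
  exact inertiaROf_congr e r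

theorem inertiaR_F (r : ℕ) (G : Type u) [Group G] [Finite G] :
    inertiaR r (F G) = S r G := by
  have h : (Nat.card G : ℚ) ≠ 0 := by exact_mod_cast Nat.card_pos.ne'
  rw [F, map_smul, inertiaR_cl, smul_smul, mul_inv_cancel₀ h, one_smul]

/-- The weighted class of the centralizer of a set. -/
noncomputable def FC (G : Type u) [Group G] [Finite G] (s : Set G) : K := F (Subgroup.centralizer s)

theorem S_one_centralizer {G : Type u} [Group G] [Finite G] (s : Set G) :
    S 1 (Subgroup.centralizer s) = ∑ᶠ g : Subgroup.centralizer s, FC G (insert (g : G) s) := by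
  unfold S
  let e : CommTuple (Subgroup.centralizer s) 1 ≃ Subgroup.centralizer s :=
    { toFun := fun t => t.1 0
      invFun := fun g => ⟨fun _ => g, Function.injective_of_subsingleton _, fun _ _ => Commute.refl _⟩
      left_inv := fun t => Subtype.ext (funext fun i => by rw [Subsingleton.elim i 0])
      right_inv := fun g => rfl }
  refine finsum_eq_of_bijective e e.bijective fun t => ?_
  have h : (Subgroup.centralizer (Set.range t.1)).map (Subgroup.centralizer s).subtype =
      Subgroup.centralizer (insert ((e t : Subgroup.centralizer s) : G) s) := by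
    ext x
    rw [Subgroup.mem_centralizer_iff]
    simp only [Subgroup.mem_map, Subgroup.mem_centralizer_iff, Set.forall_mem_range, Set.forall_mem_insert]
    constructor
    · rintro ⟨y, hy, rfl⟩
      refine ⟨congrArg Subtype.val (hy 0), fun z hz => ?_⟩
      exact Subgroup.mem_centralizer_iff.mp y.2 z hz
    · rintro ⟨h1, h2⟩
      refine ⟨⟨x, Subgroup.mem_centralizer_iff.mpr h2⟩, fun i => ?_, rfl⟩
      rw [Subsingleton.elim i 0]
      exact Subtype.ext h1
  exact F_congr ((Subgroup.equivMapOfInjective _ _ (Subgroup.subtype_injective _)).trans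
      (MulEquiv.subgroupCongr h))

theorem finsum_sigma_aux {ι : Type u} {κ : ι → Type u} [Finite ι] [∀ i, Finite (κ i)] (f : (Σ i, κ i) → K) :
    ∑ᶠ p : (Σ i, κ i), f p = ∑ᶠ i, ∑ᶠ j : κ i, f ⟨i, j⟩ := by
  classical
  let _ := Fintype.ofFinite ι
  let _ := fun i => Fintype.ofFinite (κ i)
  rw [finsum_eq_sum_of_fintype, finsum_eq_sum_of_fintype, Fintype.sum_sigma]
  exact Finset.sum_congr rfl fun i _ => (finsum_eq_sum_of_fintype _).symm

theorem S_succ (r : ℕ) (G : Type u) [Group G] [Finite G] :
    S (r + 1) G = ∑ᶠ s : CommTuple G r, ∑ᶠ g : {g : Subgroup.centralizer (Set.range s.1) // (g : G) ∉ Set.range s.1},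
      FC G (insert (g : G) (Set.range s.1)) := by
  have hf := finite_commTuple G r
  rw [← finsum_sigma_aux (κ := fun s : CommTuple G r => {g : Subgroup.centralizer (Set.range s.1) // (g : G) ∉ Set.range s.1})
    (fun p => FC G (insert (p.2.1 : G) (Set.range p.1.1)))]
  unfold S
  let e : CommTuple G (r + 1) ≃ Σ s : CommTuple G r, {g : Subgroup.centralizer (Set.range s.1) // (g : G) ∉ Set.range s.1} :=
    { toFun := fun t => ⟨⟨Fin.tail t.1, t.2.1.comp (Fin.succ_injective _), fun i j => t.2.2 _ _⟩,
        ⟨⟨t.1 0, by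
          rw [Subgroup.mem_centralizer_iff]
          rintro _ ⟨i, rfl⟩
          exact t.2.2 _ _⟩, by
          rintro ⟨i, hi⟩
          exact (Fin.succ_ne_zero i) (t.2.1 hi)⟩⟩
      invFun := fun p => ⟨Fin.cons (p.2.1 : G) p.1.1, Fin.cons_injective_iff.mpr ⟨p.2.2, p.1.2.1⟩, by
        have h := Subgroup.mem_centralizer_iff.mp p.2.1.2
        intro i j
        refine Fin.cases ?_ (fun i => ?_) i <;> refine Fin.cases ?_ (fun j => ?_) j
        · exact Commute.refl _
        · simp only [Fin.cons_zero, Fin.cons_succ]
          exact (h _ (Set.mem_range_self j)).symm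
        · simp only [Fin.cons_zero, Fin.cons_succ]
          exact (h _ (Set.mem_range_self i))
        · simp only [Fin.cons_succ]
          exact p.1.2.2 i j⟩
      left_inv := fun t => Subtype.ext (Fin.cons_self_tail t.1)
      right_inv := fun p => by
        obtain ⟨⟨s, h1, h2⟩, ⟨⟨g, h3⟩, h4⟩⟩ := p
        rfl }
  refine finsum_eq_of_bijective e e.bijective fun t => ?_
  have h : Set.range t.1 = insert (t.1 0) (Set.range (Fin.tail t.1)) := by
    conv_lhs => rw [← Fin.cons_self_tail t.1, Fin.range_cons]
  exact F_congr (MulEquiv.subgroupCongr (congrArg Subgroup.centralizer h))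

theorem inertia_S (r : ℕ) (G : Type u) [Group G] [Finite G] :
    inertia (S r G) = S (r + 1) G + (r : ℚ) • S r G := by
  classical
  have hf := finite_commTuple G r
  let _ := Fintype.ofFinite (CommTuple G r)
  let _ := Fintype.ofFinite G
  have h1 : inertia (S r G) = ∑ s : CommTuple G r, S 1 (Subgroup.centralizer (Set.range s.1)) := by
    rw [S, finsum_eq_sum_of_fintype, map_sum]
    exact Finset.sum_congr rfl fun s _ => inertiaR_F 1 _
  have h2 : S (r + 1) G + (r : ℚ) • S r G = ∑ s : CommTuple G r,
      ((∑ᶠ g : {g : Subgroup.centralizer (Set.range s.1) // (g : G) ∉ Set.range s.1},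
      FC G (insert (g : G) (Set.range s.1))) + (r : ℚ) • FC G (Set.range s.1)) := by
    rw [S_succ, S, finsum_eq_sum_of_fintype, finsum_eq_sum_of_fintype, Finset.smul_sum, ← Finset.sum_add_distrib]
    rfl
  rw [h1, h2]
  refine Finset.sum_congr rfl fun s _ => ?_
  rw [S_one_centralizer, finsum_eq_sum_of_fintype, finsum_eq_sum_of_fintype]
  rw [← Finset.sum_filter_add_sum_filter_not Finset.univ (fun g : Subgroup.centralizer (Set.range s.1) => (g : G) ∉ Set.range s.1)]
  congr 1
  · exact (Finset.sum_subtype _ (by simp) _)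
  · have h3 : ∀ g ∈ Finset.univ.filter (fun g : Subgroup.centralizer (Set.range s.1) => ¬ (g : G) ∉ Set.range s.1),
        FC G (insert (g : G) (Set.range s.1)) = FC G (Set.range s.1) := by
      intro g hg
      rw [Finset.mem_filter, not_not] at hg
      rw [Set.insert_eq_of_mem hg.2]
    rw [Finset.sum_congr rfl h3, Finset.sum_const, ← Nat.cast_smul_eq_nsmul ℚ]
    congr 2
    have h4 : Finset.univ.filter (fun g : Subgroup.centralizer (Set.range s.1) => ¬ (g : G) ∉ Set.range s.1) =
        Finset.univ.image (fun i : Fin r => (⟨s.1 i, by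
          rw [Subgroup.mem_centralizer_iff]
          rintro _ ⟨j, rfl⟩
          exact s.2.2 _ _⟩ : Subgroup.centralizer (Set.range s.1))) := by
      ext g
      simp only [Finset.mem_filter, Finset.mem_univ, true_and, not_not, Finset.mem_image, Set.mem_range]
      exact exists_congr fun i => ⟨fun h => Subtype.ext h, fun h => congrArg Subtype.val h⟩
    rw [h4, Finset.card_image_of_injective _ (fun i j hij => s.2.1 (congrArg Subtype.val hij)), Finset.card_univ,
      Fintype.card_fin]

theorem inertiaR_succ_cl (r : ℕ) (G : Type u) [Group G] [Finite G] :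
    inertiaR (r + 1) (cl G) = inertia (inertiaR r (cl G)) - (r : ℚ) • inertiaR r (cl G) := by
  rw [inertiaR_cl, inertiaR_cl, map_smul, inertia_S, smul_add, smul_comm (r : ℚ), add_sub_cancel_right]

theorem hom_ext {f g : K →ₗ[ℚ] K} (h : ∀ (i : Idx), f (cl i.rep) = g (cl i.rep)) : f = g := by
  refine Finsupp.lhom_ext' fun i => LinearMap.ext_ring ?_
  have := h i
  rw [cl_rep] at this
  exact this

theorem inertiaR_succ (r : ℕ) (v : K) :
    inertiaR (r + 1) v = inertia (inertiaR r v) - (r : ℚ) • inertiaR r v := by
  have : inertiaR (r + 1) = inertia ∘ₗ inertiaR r - (r : ℚ) • inertiaR r :=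
    hom_ext fun i => inertiaR_succ_cl r i.rep
  rw [this]; rfl

theorem inertiaR_zero (v : K) : inertiaR 0 v = v := by
  have : inertiaR 0 = LinearMap.id := by
    refine hom_ext fun i => ?_
    rw [inertiaR_cl, LinearMap.id_apply, S]
    have h : ∀ s : CommTuple i.rep 0, F (Subgroup.centralizer (Set.range s.1)) = F i.rep := by
      intro s
      have h0 : Subgroup.centralizer (Set.range s.1) = ⊤ := by
        rw [eq_top_iff]
        intro x _
        rw [Subgroup.mem_centralizer_iff]
        rintro _ ⟨i, _⟩
        exact Fin.elim0 i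
      exact F_congr ((MulEquiv.subgroupCongr h0).trans Subgroup.topEquiv)
    let _ : Unique (CommTuple i.rep 0) :=
      { default := ⟨Fin.elim0, fun i => Fin.elim0 i, fun i => Fin.elim0 i⟩
        uniq := fun s => Subtype.ext (funext fun i => Fin.elim0 i) }
    rw [finsum_unique, h, F, smul_smul, inv_mul_cancel₀, one_smul]
    exact_mod_cast Nat.card_pos.ne'
  rw [this]; rfl

end K944.Inertia
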